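import Cfsg.Agent.Mrg.Omega.NO3S.TwoOne.TvBig
import Cfsg.Agent.Omega.NO3S.TwoOne.PG.Main
import Cfsg.Agent.Mrg.Omega.NO3S.TwoOne.PE.DPlug

section


/-!
# NO-3S, `TwoOne` / `CompP`, `k ≥ 2`, `D_x = I`: (5.1) of bb OMEGA #19417 (helper409)

`h : One T V z`, `hN : NT V`, `hD : dd V z ≤ ii V`, `4 ≤ |A|`: for line vectors `l`, `m`
* `One.in_five` : `AL m l ≠ 1 → AL l m ≠ 1` (all planes allowed).

Group level: `L` another line on `z`, `y ∈ V`, `q ∈ L` points `≠ z`, `y ∉ E_z^L`; `e ∈ E_y` with `[e, q] = 1`, `f ∈ E_q^L` moves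
`y`: `j = e e^f ∈ D_q^L = I_L` has on `W_y` the functional of `e` (`One.dd_one`).
-/

set_option autoImplicit false
set_option linter.unusedSectionVars false

namespace Cfsg.Agent.Omega.NO3S.TwoOne

open Subgroup Cfsg Cfsg.Agent.ZN Cfsg.Agent.MinSimple.Geo Cfsg.Agent.Omega.CaseL
open Cfsg.Agent.Omega.NO3S.Fit
open Cfsg.Agent.ZN.Block (conj_mem_of_normalizer conj_mem_of_normalizer' le_normalizer_of_forall
  mem_normalizer_of)
open scoped commutatorElement

universe u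

variable {G : Type u} [Group G]

/-- a non trivial `a ∈ A` fixes `m` if `[m, A] ≤ {0, v}` and `|A| ≥ 4` -/
theorem exists_kill {M H : Type*} [AddCommGroup M] [Group H] [DistribMulAction H M] {A : Subgroup H} {m v : M}
    (two : ∀ x : M, x + x = 0) (sq : ∀ a ∈ A, a * a = 1) (h4 : 4 ≤ Nat.card A) (hv : ∀ a ∈ A, a • v = v)
    (hm : ∀ a ∈ A, a • m = m ∨ a • m = m + v) : ∃ a ∈ A, a ≠ 1 ∧ a • m = m := by
  have hcard : ∀ x : H, ∃ c ∈ A, c ≠ 1 ∧ c ≠ x := by
    intro x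
    by_contra hcon
    push Not at hcon
    have hfin : Finite A := Nat.finite_of_card_ne_zero (by omega)
    have : Nat.card A ≤ 2 := by
      have hsub : (A : Set H) ⊆ {1, x} := fun b hb => by
        by_cases hb1 : b = 1
        · exact Or.inl hb1
        · exact Or.inr (hcon b hb hb1)
      calc Nat.card A = Set.ncard (A : Set H) := Nat.card_coe_set_eq _
        _ ≤ Set.ncard ({1, x} : Set H) := Set.ncard_le_ncard hsub
        _ ≤ 2 := (Set.ncard_insert_le _ _).trans (by rw [Set.ncard_singleton])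
    omega
  obtain ⟨a, ha, ha1, -⟩ := hcard 1
  obtain ⟨c, hc, hc1, hca⟩ := hcard a
  rcases hm a ha with e1 | e1
  · exact ⟨a, ha, ha1, e1⟩
  rcases hm c hc with e2 | e2
  · exact ⟨c, hc, hc1, e2⟩
  refine ⟨c * a, mul_mem hc ha, fun e => hca ?_, ?_⟩
  · have h1 := eq_inv_of_mul_eq_one_left e
    rw [h1, inv_eq_of_mul_eq_one_left (sq a ha)]
  · rw [mul_smul, e1, smul_add, e2, hv c hc, add_assoc, two, add_zero]

theorem dd_le_ii_cj {V : Subgroup G} {z c : G} (hD : dd V z ≤ ii V) : dd (cj c V) (c * z * c⁻¹) ≤ ii (cj c V) := by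
  intro w hw
  rw [sig_ii_cj]
  apply hD
  have h1 := hw.1
  rw [ws_cj] at h1
  have h2 := conj_mem_ws c⁻¹ h1
  have e1 : c⁻¹ * (c * z * c⁻¹) * c⁻¹⁻¹ = z := by group
  rw [e1, inv_inv] at h2
  refine ⟨h2, fun p hp hp1 b hb => ?_⟩
  have h3 : c * b * c⁻¹ ∈ ws (cj c V) (c * p * c⁻¹) := by
    rw [ws_cj]; exact conj_mem_ws c hb
  have h4 := hw.2 _ (conj_mem_cj (g := c) hp) (fun e => hp1 (conj_eq_one_iff.mp e)) _ h3
  calc c⁻¹ * w * c * b = c⁻¹ * (w * (c * b * c⁻¹)) * c := by group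
    _ = c⁻¹ * (c * b * c⁻¹ * w) * c := by rw [h4]
    _ = b * (c⁻¹ * w * c) := by group

namespace One

/-- `D_z = I` at one point gives `D_p = I` at every point -/
theorem dd_le_ii_pt [Finite G] {T V : Subgroup G} {z p : G} (h : One T V z) (hD : dd V z ≤ ii V) (hp : p ∈ V)
    (hp1 : p ≠ 1) : dd V p ≤ ii V := by
  intro w hw
  obtain ⟨x, hx, hxz⟩ := h.xl_trans hp hp1 h.ln.z_mem h.ln.z_ne
  have hxn := h.xl_le_normalizer hx
  have h1 := conj_mem_dd hxn hw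
  rw [hxz] at h1
  have h2 := conj_mem_of_normalizer' (normalizer_le_normalizer_ii V) hxn (hD h1)
  have e : x⁻¹ * (x * w * x⁻¹) * x = w := by group
  rwa [e] at h2

/-- the group level of (5.1) -/
theorem dd_one [Finite G] {T V L : Subgroup G} {z y q : G} (h : One T V z) (hN : NT V) (hD : dd L q ≤ ii L)
    (hL : L ∈ lines V z) (hy : y ∈ V) (hy1 : y ≠ 1) (hyz : y ≠ z) (hq : q ∈ L) (hq1 : q ≠ 1) (hqz : q ≠ z)
    (yL : y ∉ ee L z) {e : G} (he : e ∈ ee V y) (heq : e * q = q * e) : ∃ j ∈ ii L, j ∈ ee V z ∧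
    ∀ a ∈ ws V z, ∀ b ∈ ws V y, Tw V z a y b → (j * b = b * j ↔ e * a = a * e) := by
  obtain ⟨T', h', hNL, hws, hkq⟩ := h.line hN hL
  have hz := h.ln.z_mem
  have hz1 := h.ln.z_ne
  have hs : z * y ∈ V := mul_mem hz hy
  have hs1 : z * y ≠ 1 := h.mul_ne_one hy (Ne.symm hyz)
  obtain ⟨f, hf, hfy⟩ := h'.nt_move_ee hNL hq hq1 hL.2 hz1 (Ne.symm hqz) (b := y)
    (by rw [hws]; exact h.V_le hz hz1 hy) yL
  have hfV : f ∈ kq V z := by
    rw [← hkq]
    exact hf.2 z hL.2 hz1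
  have h2 : f * e * f⁻¹ ∈ ee V (z * y) := by
    have := conj_mem_ee (h.kq_le_normalizer hz hz1 hfV) he
    rwa [hfy] at this
  have hee := h.sq hy hy1 e he.1
  have hei : e⁻¹ = e := inv_eq_self hee
  have heL : e ∈ centralizer (L : Set G) :=
    h'.mem_centralizer_of hq hq1 hL.2 hz1 (Ne.symm hqz) heq
      (h.V_comm hz (h.ws_le_centralizer_V hy hy1 he.1)).symm
  have h1 : e * (f * e * f⁻¹) ∈ ws L q := by
    have e1 : e * (f * e * f⁻¹) = (e * f * e⁻¹) * f⁻¹ := by rw [hei]; group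
    rw [e1]
    exact mul_mem (conj_mem_of_normalizer (h'.cent_norm hq) heL hf.1) (inv_mem hf.1)
  -- `f e f⁻¹` and `e` act in the same way on `W_z`
  have hze := h.V_comm hz (h.ws_le_centralizer_V hy hy1 he.1)
  have hsame : ∀ a ∈ ws V z, (f * e * f⁻¹ * a = a * (f * e * f⁻¹) ↔ e * a = a * e) := by
    intro a ha
    constructor
    · intro hc
      rcases h.kq_cases hz (inv_mem hfV) ha with e1 | e1
      · rw [inv_inv] at e1
        have : e * (f⁻¹ * a * f) = (f⁻¹ * a * f) * e := by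
          calc e * (f⁻¹ * a * f) = f⁻¹ * (f * e * f⁻¹ * a) * f := by group
            _ = f⁻¹ * (a * (f * e * f⁻¹)) * f := by rw [hc]
            _ = (f⁻¹ * a * f) * e := by group
        rwa [e1] at this
      · rw [inv_inv] at e1
        have : e * (f⁻¹ * a * f) = (f⁻¹ * a * f) * e := by
          calc e * (f⁻¹ * a * f) = f⁻¹ * (f * e * f⁻¹ * a) * f := by group
            _ = f⁻¹ * (a * (f * e * f⁻¹)) * f := by rw [hc]
            _ = (f⁻¹ * a * f) * e := by group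
        rw [e1] at this
        calc e * a = z⁻¹ * ((z * e) * a) := by group
          _ = z⁻¹ * (e * (z * a)) := by rw [hze]; group
          _ = z⁻¹ * (z * a * e) := by rw [this]
          _ = a * e := by group
    · intro hc
      rcases h.kq_cases hz (inv_mem hfV) ha with e1 | e1
      · rw [inv_inv] at e1
        calc f * e * f⁻¹ * a = f * (e * (f⁻¹ * a * f)) * f⁻¹ := by group
          _ = f * ((f⁻¹ * a * f) * e) * f⁻¹ := by rw [e1, hc]
          _ = a * (f * e * f⁻¹) := by group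
      · rw [inv_inv] at e1
        have : e * (f⁻¹ * a * f) = (f⁻¹ * a * f) * e := by
          rw [e1]
          calc e * (z * a) = (e * z) * a := by group
            _ = z * (e * a) := by rw [← hze]; group
            _ = z * a * e := by rw [hc]; group
        calc f * e * f⁻¹ * a = f * (e * (f⁻¹ * a * f)) * f⁻¹ := by group
          _ = f * ((f⁻¹ * a * f) * e) * f⁻¹ := by rw [this]
          _ = a * (f * e * f⁻¹) := by group
  -- `j` commutes with `W_z`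
  have hjz : ∀ a ∈ ws V z, e * (f * e * f⁻¹) * a = a * (e * (f * e * f⁻¹)) := by
    intro a ha
    by_cases hc : e * a = a * e
    · exact mul_comm_of hc ((hsame a ha).mpr hc)
    · exact h.mv_mul hz (he.2 z hz hz1) (h2.2 z hz hz1) ha hc (fun e' => hc ((hsame a ha).mp e'))
  have h0 : e * (f * e * f⁻¹) ∈ ii L := by
    refine hD (h'.mem_dd hq hq1 hL.2 hz1 (Ne.symm hqz) h1 fun b hb => ?_)
    rw [hws] at hb
    exact hjz b hb
  refine ⟨_, h0, ⟨?_, fun p hp hp1 => mul_mem (he.2 p hp hp1) (h2.2 p hp hp1)⟩, fun a ha b hb ht => ?_⟩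
  · rw [← hws]
    exact ii_le hL.2 hz1 h0
  · have h3 : f * e * f⁻¹ * a = a * (f * e * f⁻¹) ↔ f * e * f⁻¹ * b = b * (f * e * f⁻¹) :=
      h.twin_iff hz hz1 hy hy1 hyz h2 ha ht
    have h4 : e * b = b * e := h.comm hy hy1 _ he.1 _ hb
    have h5 : e * (f * e * f⁻¹) * b = b * (e * (f * e * f⁻¹)) ↔
        f * e * f⁻¹ * b = b * (f * e * f⁻¹) := by
      constructor
      · intro hc
        have e1 : f * e * f⁻¹ = e⁻¹ * (e * (f * e * f⁻¹)) := by group
        rw [e1]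
        exact mul_comm_of (inv_comm_of h4) hc
      · intro hc
        exact mul_comm_of h4 hc
    rw [h5, ← h3]
    exact hsame a ha

variable {T V : Subgroup G} {z : G} {M H : Type u} [AddCommGroup M] [Group H] [DistribMulAction H M]
  (h : One T V z) (R : MRep V cg z M H) {y : G} (hy : y ∈ V) (hy1 : y ≠ 1) (hyz : y ≠ z)
include h hy hy1 hyz

/-- at `v₀` -/
theorem loc_dd_one [Finite G] (hN : NT V) (hD : dd V z ≤ ii V) {x : H} (h1 : al0 R y (x • R.pi y) = 1)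
    (h2 : al0 R y (x⁻¹ • R.pi y) ≠ 1) {e : M} (he : al0 R y e = 1) :
    ∃ j, x⁻¹ • j ∈ i0 R ∧ al0 R y j = 1 ∧ ∀ a ∈ a0 R y, a • j + j = a • e + e := by
  have hz := h.ln.z_mem
  have hz1 := h.ln.z_ne
  have hyW := h.V_le hz hz1 hy
  obtain ⟨f, hf, rfl⟩ := R.phi_surj x
  have hfz : f * z * f⁻¹ = z := conj_eq_of_comm (mem_centralizer_singleton_iff.mp hf)
  have hL : cj f V ∈ lines V z := by
    have := mem_lines_cj (g := f) (L := V) (V := V) (x := z) ⟨⟨1, (cj_one V).symm⟩, hz⟩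
    rwa [hfz] at this
  have hqL : f * y * f⁻¹ ∈ cj f V := conj_mem_cj hy
  have hqW : f * y * f⁻¹ ∈ ws V z := le_ws hL hqL
  have hq1 : f * y * f⁻¹ ≠ 1 := fun e => hy1 (conj_eq_one_iff.mp e)
  have hqz : f * y * f⁻¹ ≠ z := fun e => hyz (by
    calc y = f⁻¹ * (f * y * f⁻¹) * f := by group
      _ = f⁻¹ * (f * z * f⁻¹) * f := by rw [e, hfz]
      _ = z := by group)
  have hqE : f * y * f⁻¹ ∈ ee V z := by
    rw [h.rp_act R hf hyW] at h1
    exact (h.al0_one R hy hy1 hyz hqW).mp h1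
  have yL : y ∉ ee (cj f V) z := by
    intro hE
    apply h2
    have h3 : y ∈ ee (cj f V) (f * z * f⁻¹) := by rw [hfz]; exact hE
    have h4 := sig_ee_cj.mp h3
    have h5 : f⁻¹ * y * f⁻¹⁻¹ ∈ ee V z := by rwa [inv_inv]
    rw [← R.phi_inv hf, h.rp_act R (inv_mem hf) hyW]
    exact (h.al0_one R hy hy1 hyz h5.1).mpr h5
  have hDL : dd (cj f V) (f * y * f⁻¹) ≤ ii (cj f V) := dd_le_ii_cj (h.dd_le_ii_pt hD hy hy1)
  obtain ⟨w, hw, rfl⟩ := h.rp_surj R e
  have hwE := (h.al0_one R hy hy1 hyz hw).mp he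
  obtain ⟨e', he'E, hee⟩ := h.ee_swap hy hy1 hyz hwE
  obtain ⟨j, hj, hjE, hjf⟩ := h.dd_one hN hDL hL hy hy1 hyz hqL hq1 hqz yL he'E
    (h.ee_comm hy hy1 hz hz1 he'E hqE)
  refine ⟨R.pi j, ?_, (h.al0_one R hy hy1 hyz hjE.1).mpr hjE, fun a ha => ?_⟩
  · rw [← R.phi_inv hf, h.rp_act R (inv_mem hf) hjE.1, inv_inv]
    exact (h.mem_i0 R).mpr ⟨_, sig_ii_cj.mp hj, rfl⟩
  · obtain ⟨c, hc, rfl⟩ := (h.mem_a0 R hy hy1).mp ha
    obtain ⟨a', ha', ht'⟩ := h.tw_exists hy hy1 hz hz1 hc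
    have h3 := (hjf a' ha' c hc (h.tw_symm ht')).trans (hee a' ha' c hc (h.tw_symm ht'))
    obtain ⟨h4, h5⟩ := h.rp_ee R hy hy1 hyz hjE hc
    obtain ⟨h6, h7⟩ := h.rp_ee R hy hy1 hyz hwE hc
    have h8 := h.rp_two R
    by_cases h9 : w * c = c * w
    · rw [h4 (h3.mpr h9), h6 h9, h8, h8]
    · rw [h5 (fun e => h9 (h3.mp e)), h7 h9, add_comm (R.pi j), add_comm (R.pi w), add_assoc, add_assoc, h8, h8]

/-- (S1) on `M` for `m ∈ Ē_l`, `D_z = I` -/
theorem in_dd_one [Finite G] (hN : NT V) (hD : dd V z ≤ ii V) {l m : M} (hl : l ∈ LL R y) (hm : m ∈ LL R y)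
    (h1 : AL R y l m = 1) (h2 : AL R y m l ≠ 1) {e : M} (he : AL R y l e = 1) :
    ∃ j ∈ II R y m, AL R y l j = 1 ∧ ∀ a ∈ AA R y l, a • j + j = a • e + e := by
  obtain ⟨g, hg⟩ := hl
  obtain ⟨k, hk⟩ := hm
  have hg' : g • R.pi y = l := hg
  have hk' : k • R.pi y = m := hk
  have hgk : (g⁻¹ * k) • R.pi y = g⁻¹ • m := by rw [mul_smul, hk']
  have h3 : al0 R y ((g⁻¹ * k) • R.pi y) = 1 := by
    rw [h.AL_eq R hy hy1 hyz hg'] at h1
    rw [hgk]
    exact conj_eq_one_iff.mp h1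
  have h4 : al0 R y ((g⁻¹ * k)⁻¹ • R.pi y) ≠ 1 := by
    intro e
    apply h2
    have e1 : (g⁻¹ * k)⁻¹ = k⁻¹ * g := by group
    rw [e1] at e
    rw [h.AL_eq R hy hy1 hyz hk', ← hg', smul_smul, e, mul_one, mul_inv_cancel]
  have h5 : al0 R y (g⁻¹ • e) = 1 := by
    rw [h.AL_eq R hy hy1 hyz hg'] at he
    exact conj_eq_one_iff.mp he
  obtain ⟨j, hj, hj1, hjf⟩ := h.loc_dd_one R hy hy1 hyz hN hD h3 h4 h5
  refine ⟨g • j, ?_, ?_, fun a ha => ?_⟩
  · rw [h.mem_II R hy hy1 hyz hk', smul_smul]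
    have e1 : (g⁻¹ * k)⁻¹ = k⁻¹ * g := by group
    rwa [e1] at hj
  · rw [h.AL_eq R hy hy1 hyz hg', inv_smul_smul, hj1, mul_one, mul_inv_cancel]
  · rw [h.mem_AA R hy hy1 hyz hg'] at ha
    have h7 := congrArg (fun u => g • u) (hjf _ ha)
    change g • ((g⁻¹ * a * g) • j + j) = g • ((g⁻¹ * a * g) • g⁻¹ • e + g⁻¹ • e) at h7
    rw [smul_add, smul_add, smul_inv_smul, smul_smul, smul_smul, smul_smul] at h7
    have e1 : g * (g⁻¹ * a * g) = a * g := by group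
    have e2 : a * g * g⁻¹ = a := by group
    rw [e1, e2, mul_smul] at h7
    exact h7

/-- **(5.1)** -/
theorem in_five [Finite G] (hN : NT V) (hD : dd V z ≤ ii V) (h4 : 4 ≤ (ee V z).relIndex (ws V z)) {l m : M}
    (hl : l ∈ LL R y) (hm : m ∈ LL R y) (h2 : AL R y m l ≠ 1) : AL R y l m ≠ 1 := by
  intro h1
  obtain ⟨a, ha, ha1, ham⟩ := exists_kill (A := AA R y l) (m := m) (v := l) (h.rp_two R)
    (fun a ha => h.in_sq R hy hy1 hyz hl ha) (by rw [h.in_card R hy hy1 hyz hl]; exact h4)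
    (fun a ha => h.in_fix R hy hy1 hyz hl ha (h.in_self R hy hy1 hyz hl))
    ((h.in_al_ker R hy hy1 hyz hN hl m).mp h1)
  obtain ⟨e, he, hae⟩ := h.in_phi R hy hy1 hyz hN hl ha ha1
  obtain ⟨j, hj, -, hjf⟩ := h.in_dd_one R hy hy1 hyz hN hD hl hm h1 h2 he
  have h3 := hjf a ha
  have h5 : a • j ∈ II R y m := by
    have := h.in_I_conj R hy hy1 hyz hm a hj
    rwa [ham] at this
  have h6 : l ∈ II R y m := by
    have e1 : a • e + e = l := by
      rw [hae]
      calc e + l + e = (e + e) + l := by abel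
        _ = l := by rw [h.rp_two R, zero_add]
    rw [← e1, ← h3]
    exact add_mem h5 hj
  exact h2 ((h.in_al_ker R hy hy1 hyz hN hm l).mpr fun b hb => Or.inl (h.in_fix R hy hy1 hyz hm hb h6))

end One

end Cfsg.Agent.Omega.NO3S.TwoOne

end

section


/-!
# NO-3S, `q = 2`, `n = 1`: `k ≥ 2`, no `λ`-transvections is impossible (helper409's text, bb OMEGA #19417)

* `One.pg_dat` : `D_z = I` : the record `PG.Dat`;
* `One.dd_small` : `D_z = I` is impossible;
* `One.nt_false` : `One T V z`, `NT V`, `4 ≤ |A|` is impossible;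
* **`ntBigP : NtBigP K`**.
-/

set_option autoImplicit false
set_option linter.unusedSectionVars false

namespace Cfsg.Agent.Omega.NO3S.TwoOne

open Subgroup Cfsg Cfsg.Agent.ZN Cfsg.Agent.MinSimple.Geo Cfsg.Agent.Omega.CaseL
open Cfsg.Agent.Omega.NO3S.Fit Cfsg.Agent.Omega.MinPar Cfsg.Agent.Omega.Frame Cfsg.Agent.Omega.FrameNOFF

universe u

variable {G : Type u} [Group G]

namespace One

variable {T V : Subgroup G} {z : G} {M H : Type u} [AddCommGroup M] [Group H] [DistribMulAction H M]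
  (h : One T V z) (R : MRep V cg z M H) {y : G} (hy : y ∈ V) (hy1 : y ≠ 1) (hyz : y ≠ z)
include h hy hy1 hyz

/-- `D_z = I` : the record of section 5 -/
theorem pg_dat [Finite G] [Finite H] (hN : NT V) (hD : dd V z ≤ ii V) (h4 : 4 ≤ (ee V z).relIndex (ws V z)) :
    PG.Dat (LL R y) (AA R y) (II R y) (AL R y) where
  two := h.rp_two R
  zero := fun h0 => h.in_ne R hy hy1 hyz h0 rfl
  gen := h.in_gen R hy hy1 hyz
  smul := fun x _ hl => smul_mem_LL R y x hl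
  trans := fun hl hm => trans_LL R y hl hm
  A_conj := fun _ _ _ hl ha => h.in_A_conj R hy hy1 hyz hl ha
  I_conj := fun x _ _ hl hu => h.in_I_conj R hy hy1 hyz hl x hu
  sq := fun hl ha => h.in_sq R hy hy1 hyz hl ha
  four := fun hl => h.in_four R hy hy1 hyz h4 hl
  self := fun hl => h.in_self R hy hy1 hyz hl
  comm := fun hl ha m => h.in_comm R hy hy1 hyz hl ha m
  fix := fun hl ha hu => h.in_fix R hy hy1 hyz hl ha hu
  al_mem := fun hl m => h.in_al_mem R hy hy1 hyz hl m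
  al_add := fun hl m m' => h.in_al_add R hy hy1 hyz hl m m'
  al_surj := fun hl ha => h.in_al_surj R hy hy1 hyz hl ha
  al_conj := fun x _ hl m => h.in_al_conj R hy hy1 hyz hl x m
  al_ker := fun hl m => h.in_al_ker R hy hy1 hyz hN hl m
  sy := fun hl m m' => h.in_sy R hy hy1 hyz hl m m'
  phi := fun hl ha ha1 => h.in_phi R hy hy1 hyz hN hl ha ha1
  five := fun hl hm h1 => h.in_five R hy hy1 hyz hN hD h4 hl hm h1
  s1 := fun hl hm h1 h2 _ he he' => h.in_s1 R hy hy1 hyz hN hl hm h1 h2 he he'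
  s3 := fun hl hm h1 h2 ⟨_, ha, ha'⟩ => h.in_s3w R hy hy1 hyz hN hl hm h1 h2 ha ha'
  alpha := fun hl hm h1 h2 hu hu' hu0 => h.m_alpha_pair hN R hy hy1 hyz hl hm h1 h2 hu hu' hu0
  kappa := fun hl hm _ h2 h3 h4' hf => h.m_kappa' hN R hy hy1 hyz hl hm h2 h3 h4' hf

omit hy hy1 hyz in
/-- `|A| ≥ 4`, no `λ`-transvections, `D_z = I` is impossible (planes allowed) -/
theorem dd_small [Finite G] (hN : NT V) (h4 : 4 ≤ (ee V z).relIndex (ws V z)) (hD : dd V z ≤ ii V) : False := by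
  obtain ⟨y, hy, hy1, hyz⟩ := h.ln.exists_y
  obtain ⟨M, H, iM, fM, iH, fH, iA, -, ⟨R⟩⟩ := h.fam.exists_mrep
  have G := h.pp_gen R hy hy1 hyz hN h4
  have D := h.pg_dat R hy hy1 hyz hN hD h4
  have hl := self_mem_LL R y
  obtain ⟨m, hm, h1⟩ := G.exists_far hl
  exact G.false_of_part (fun hl hm h1 h2 => D.part (fun hl ha ha1 ho ho' hinv => (G.sgm hl ha ha1 ho ho' hinv).2.2)
    hl hm h1 h2) hl hm h1 (D.five hm hl h1)

omit hy hy1 hyz in
/-- **`|A| ≥ 4`, no `λ`-transvections is impossible.** -/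
theorem nt_false [Finite G] (hN : NT V) (h4 : 4 ≤ (ee V z).relIndex (ws V z)) : False := by
  by_cases hD : dd V z ≤ ii V
  · exact h.dd_small hN h4 hD
  · exact h.dd_big hN h4 hD

end One

/-- **`NtBigP`** -/
theorem ntBigP (K : Cls.{u}) : NtBigP K :=
  fun _ _ _ _ _ _ _ _ ho hc _ _ _ _ _ _ _ _ _ _ => (ho.nt_false hc.2 (ho.four_of_not_kOne hc.1)).elim

end Cfsg.Agent.Omega.NO3S.TwoOne

end
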